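import Groth.Prelude.Def_W4bk4git07Quot
import Mathlib.AlgebraicGeometry.AlgClosed.Basic
import Mathlib.CategoryTheory.Limits.Constructions.Over.Connected

/-!
# Closed orbits and quotients by a normal subgroup
-/

set_option autoImplicit false
universe u

noncomputable section

open CategoryTheory MonoidalCategory CartesianMonoidalCategory MonObj AlgebraicGeometry Limits

namespace Groth.Agent.OrbitQuot

variable {S : Scheme.{u}}

theorem isPullback_whiskerRight_left {A A' : Over S} (f : A' ⟶ A) (M : Over S) :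
    IsPullback (f ▷ M).left (fst A' M).left (fst A M).left f.left := by
  have h : IsPullback (f ▷ M) (fst A' M) (fst A M) f :=
    IsPullback.of_isLimit' ⟨whiskerRight_fst f M⟩ (PullbackCone.IsLimit.mk _
      (fun s => lift s.snd (s.fst ≫ snd A M))
      (fun s => by apply CartesianMonoidalCategory.hom_ext <;> simp [s.condition])
      (fun s => lift_fst _ _)
      (fun s w h1 h2 => by
        apply CartesianMonoidalCategory.hom_ext
        · simp [← h2]
        · simp [← h1]))
  exact h.map (Over.forget S)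

theorem eq_closedPoint {Ω : Type u} [Field Ω] {T : Scheme.{u}} (e : T ≅ Spec (CommRingCat.of Ω)) (c c' : T) :
    c = c' := e.hom.homeomorph.injective ((show Subsingleton (PrimeSpectrum Ω) from inferInstance).elim _ _)

/-- every point of a scheme over the base is the image of a field-valued point -/
theorem exists_field_point {P : Over S} (p : P.left) :
    ∃ (T : Over S) (Ω : Type u) (_ : Field Ω) (_ : T.left ≅ Spec (CommRingCat.of Ω)) (m : T ⟶ P) (c : T.left),
      m.left c = p := by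
  refine ⟨Over.mk (P.left.fromSpecResidueField p ≫ P.hom), P.left.residueField p, inferInstance, Iso.refl _,
    Over.homMk (P.left.fromSpecResidueField p) rfl, IsLocalRing.closedPoint _, ?_⟩
  simp

/-- field-valued points lift along surjective morphisms after an extension -/
theorem exists_lift {A B : Over S} (f : A ⟶ B) (hf : Function.Surjective f.left) {T : Over S} (m : T ⟶ B) (c : T.left) :
    ∃ (T' : Over S) (Ω : Type u) (_ : Field Ω) (_ : T'.left ≅ Spec (CommRingCat.of Ω)) (p : T' ⟶ T) (n : T' ⟶ A)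
      (_ : T'.left), n ≫ f = p ≫ m := by
  obtain ⟨a, ha⟩ := hf (m.left c)
  obtain ⟨q, -, -⟩ := Scheme.Pullback.exists_preimage_pullback a c ha
  let P : Over S := Over.mk (pullback.fst f.left m.left ≫ A.hom)
  obtain ⟨T', Ω, _, e, g, c', -⟩ := exists_field_point (P := P) q
  let p₁ : P ⟶ A := Over.homMk (pullback.fst _ _) rfl
  let p₂ : P ⟶ T := Over.homMk (pullback.snd _ _) (by
    show pullback.snd f.left m.left ≫ T.hom = pullback.fst f.left m.left ≫ A.hom
    rw [← Over.w f, ← Over.w m, pullback.condition_assoc])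
  refine ⟨T', Ω, inferInstance, e, g ≫ p₂, g ≫ p₁, c', ?_⟩
  rw [Category.assoc, Category.assoc]
  exact congrArg (g ≫ ·) (Over.OverMorphism.ext pullback.condition)

theorem surjective_of_points {A B : Over S} (f : A ⟶ B)
    (h : ∀ (T : Over S) (m : T ⟶ B) (_ : T.left), ∃ (T' : Over S) (p : T' ⟶ T) (n : T' ⟶ A) (_ : T'.left),
      n ≫ f = p ≫ m) (hsub : ∀ b : B.left, ∃ (T : Over S) (m : T ⟶ B) (c : T.left), ∀ c', m.left c' = b) :
    Function.Surjective f.left := fun b => by
  obtain ⟨T, m, c, hm⟩ := hsub b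
  obtain ⟨T', p, n, c', e⟩ := h T m c
  refine ⟨n.left c', ?_⟩
  rw [← hm (p.left c')]
  exact congrArg (fun g : T' ⟶ B => g.left c') e

theorem exists_field_point' {P : Over S} (p : P.left) :
    ∃ (T : Over S) (m : T ⟶ P) (_ : T.left), ∀ c', m.left c' = p := by
  obtain ⟨T, Ω, _, e, m, c, hc⟩ := exists_field_point p
  exact ⟨T, m, c, fun c' => by rw [eq_closedPoint e c' c, hc]⟩

variable {H N Q X Y : Over S} [GrpObj H] [GrpObj N] [GrpObj Q]

theorem act_mul (a : AlgGrp.Action H X) {T : Over S} (g h : T ⟶ H) (x : T ⟶ X) :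
    lift (g * h) x ≫ a.act = lift g (lift h x ≫ a.act) ≫ a.act := by
  have := congrArg (fun m => lift (lift g h) x ≫ m) a.mul_act
  simpa [Hom.mul_def, lift_whiskerRight_assoc, lift_lift_associator_hom_assoc, lift_whiskerLeft_assoc] using this

variable (i : N ⟶ H) (q : H ⟶ Q) (a : AlgGrp.Action H X) (aN : AlgGrp.Action N X) (π : X ⟶ Y) (aQ : AlgGrp.Action Q Y)

theorem psi_comp (hequiv : (q ⊗ₘ π) ≫ aQ.act = a.act ≫ π) {T : Over S} (f : T ⟶ X) :
    (q ▷ T) ≫ GIT.psi aQ (f ≫ π) = GIT.psi a f ≫ (π ▷ T) := by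
  apply CartesianMonoidalCategory.hom_ext
  · simp only [GIT.psi, Category.assoc, lift_fst, lift_snd, whiskerRight_fst, lift_fst_assoc]
    rw [← hequiv]
    simp [← tensorHom_def, MonoidalCategory.whisker_exchange_assoc, MonoidalCategory.tensorHom_def']
  · simp [GIT.psi]

theorem surjective_whiskerRight (hq : Function.Surjective q.left) (T : Over S) :
    Function.Surjective (q ▷ T).left := by
  refine surjective_of_points (q ▷ T) (fun T₁ m c => ?_) fun b => exists_field_point' b
  obtain ⟨T', Ω, _, e, p, n, c', hn⟩ := exists_lift q hq (m ≫ fst Q T) c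
  refine ⟨T', p, lift n (p ≫ m ≫ snd Q T), c', ?_⟩
  apply CartesianMonoidalCategory.hom_ext
  · simp [hn]
  · simp

theorem range_psi_eq_preimage [IsMonHom i] (haN : aN.act = (i ▷ X) ≫ a.act) (hπ : GIT.IsGeomQuot aN π)
    (hequiv : (q ⊗ₘ π) ≫ aQ.act = a.act ≫ π) (hq : Function.Surjective q.left) {T : Over S} (f : T ⟶ X) :
    Set.range (GIT.psi a f).left.base = (π ▷ T).left.base ⁻¹' Set.range (GIT.psi aQ (f ≫ π)).left.base := by
  ext z
  constructor
  · rintro ⟨w, rfl⟩
    exact ⟨(q ▷ T).left w, congrArg (fun g : H ⊗ T ⟶ Y ⊗ T => g.left w) (psi_comp q a π aQ hequiv f)⟩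
  · rintro ⟨b, hb⟩
    obtain ⟨h₀, rfl⟩ := surjective_whiskerRight q hq T b
    have hb' : (GIT.psi a f ≫ (π ▷ T)).left h₀ = (π ▷ T).left z :=
      (congrArg (fun g : H ⊗ T ⟶ Y ⊗ T => g.left h₀) (psi_comp q a π aQ hequiv f)).symm.trans hb
    obtain ⟨r, -, hr₂⟩ := Scheme.Pullback.exists_preimage_pullback h₀ z hb'
    let P : Over S := Over.mk (pullback.fst (GIT.psi a f ≫ (π ▷ T)).left (π ▷ T).left ≫ (H ⊗ T).hom)
    let p₁ : P ⟶ H ⊗ T := Over.homMk (pullback.fst _ _) rfl
    let p₂ : P ⟶ X ⊗ T := Over.homMk (pullback.snd _ _) (by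
      show pullback.snd _ _ ≫ (X ⊗ T).hom = pullback.fst _ _ ≫ (H ⊗ T).hom
      rw [← Over.w (GIT.psi a f ≫ (π ▷ T)), ← Over.w (π ▷ T), pullback.condition_assoc])
    have hp : p₁ ≫ GIT.psi a f ≫ (π ▷ T) = p₂ ≫ (π ▷ T) := Over.OverMorphism.ext pullback.condition
    obtain ⟨T₁, g₁, c₁, hc₁⟩ := exists_field_point' (P := P) r
    let x₁ : T₁ ⟶ X := g₁ ≫ p₁ ≫ GIT.psi a f ≫ fst X T
    let x₂ : T₁ ⟶ X := g₁ ≫ p₂ ≫ fst X T
    have hx : x₂ ≫ π = x₁ ≫ π := by
      have h1 := congrArg (fun g => g₁ ≫ g ≫ fst Y T) hp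
      simp only [Category.assoc, whiskerRight_fst] at h1
      simp only [x₁, x₂, Category.assoc, h1]
    let PY : Over S := Over.mk (pullback.fst π.left π.left ≫ X.hom)
    let Ψ : N ⊗ X ⟶ PY := Over.homMk (GIT.PsiY aN π hπ.inv) (by
      show GIT.PsiY aN π hπ.inv ≫ pullback.fst π.left π.left ≫ X.hom = _
      rw [GIT.PsiY, pullback.lift_fst_assoc]
      exact Over.w aN.act)
    let m : T₁ ⟶ PY := Over.homMk (pullback.lift x₂.left x₁.left (congrArg CommaMorphism.left hx)) (by
      show pullback.lift x₂.left x₁.left _ ≫ pullback.fst π.left π.left ≫ X.hom = _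
      rw [pullback.lift_fst_assoc]
      exact Over.w x₂)
    obtain ⟨T₂, Ω, _, e, p, n, c₂, hn⟩ := exists_lift Ψ hπ.orbit m c₁
    have hn₁ : n ≫ aN.act = p ≫ x₂ := by
      have := congrArg (fun g : T₂ ⟶ PY => g.left ≫ pullback.fst π.left π.left) hn
      simp only [Ψ, m, Over.comp_left, Over.homMk_left, Category.assoc, GIT.PsiY, pullback.lift_fst] at this
      exact Over.OverMorphism.ext this
    have hn₂ : n ≫ snd N X = p ≫ x₁ := by
      have := congrArg (fun g : T₂ ⟶ PY => g.left ≫ pullback.snd π.left π.left) hn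
      simp only [Ψ, m, Over.comp_left, Over.homMk_left, Category.assoc, GIT.PsiY, pullback.lift_snd] at this
      exact Over.OverMorphism.ext this
    let hh : T₂ ⟶ H := (n ≫ fst N X ≫ i) * (p ≫ g₁ ≫ p₁ ≫ fst H T)
    have key : lift hh (p ≫ g₁ ≫ p₁ ≫ snd H T) ≫ GIT.psi a f = p ≫ g₁ ≫ p₂ := by
      apply CartesianMonoidalCategory.hom_ext
      · simp only [GIT.psi, Category.assoc, lift_fst, lift_whiskerLeft_assoc]
        rw [act_mul]
        have e1 : lift (p ≫ g₁ ≫ p₁ ≫ fst H T) ((p ≫ g₁ ≫ p₁ ≫ snd H T) ≫ f) ≫ a.act = p ≫ x₁ := by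
          have h0 : lift (fst H T) (snd H T ≫ f) ≫ a.act = GIT.psi a f ≫ fst X T := by
            simp only [GIT.psi, lift_fst]
            congr 1
          have h1 := congrArg (fun g => p ≫ g₁ ≫ p₁ ≫ g) h0
          simp only [← Category.assoc, comp_lift] at h1
          simp only [x₁, ← Category.assoc]
          exact h1
        simp only [Category.assoc] at e1 ⊢
        rw [e1, ← hn₂, show p ≫ g₁ ≫ p₂ ≫ fst X T = p ≫ x₂ from rfl, ← hn₁, haN]
        have : lift (n ≫ fst N X ≫ i) (n ≫ snd N X) = n ≫ (i ▷ X) := by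
          apply CartesianMonoidalCategory.hom_ext <;> simp
        rw [this, Category.assoc]
      · simp only [GIT.psi, Category.assoc, lift_snd]
        have h1 := congrArg (fun g => p ≫ g₁ ≫ g ≫ snd Y T) hp
        simp only [Category.assoc, whiskerRight_snd, GIT.psi, lift_snd] at h1
        exact h1
    refine ⟨(lift hh (p ≫ g₁ ≫ p₁ ≫ snd H T)).left c₂, ?_⟩
    refine (congrArg (fun g : T₂ ⟶ X ⊗ T => g.left c₂) key).trans ?_
    show p₂.left (g₁.left (p.left c₂)) = z
    rw [hc₁]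
    exact hr₂

theorem isClosed_iff [IsMonHom i] (haN : aN.act = (i ▷ X) ≫ a.act) (hπ : GIT.IsGeomQuot aN π)
    (hequiv : (q ⊗ₘ π) ≫ aQ.act = a.act ≫ π) (hq : Function.Surjective q.left) {T : Over S} (f : T ⟶ X) :
    IsClosed (Set.range (GIT.psi a f).left.base) ↔ IsClosed (Set.range (GIT.psi aQ (f ≫ π)).left.base) := by
  rw [range_psi_eq_preimage i q a aN π aQ haN hπ hequiv hq f]
  have h : Topology.IsQuotientMap (π ▷ T).left.base :=
    hπ.subm _ _ _ (isPullback_whiskerRight_left π T)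
  exact h.isClosed_preimage

theorem isClosedAction_iff {k : Type u} [Field k] {H N Q X Y : Over (Spec (CommRingCat.of k))} [GrpObj H] [GrpObj N]
    [GrpObj Q] [LocallyOfFiniteType X.hom]
    (i : N ⟶ H) [IsMonHom i] (q : H ⟶ Q) (a : AlgGrp.Action H X) (aN : AlgGrp.Action N X) (π : X ⟶ Y)
    (aQ : AlgGrp.Action Q Y) (haN : aN.act = (i ▷ X) ≫ a.act) (hπ : GIT.IsGeomQuot aN π)
    (hequiv : (q ⊗ₘ π) ≫ aQ.act = a.act ≫ π) (hq : Function.Surjective q.left) :
    GIT.IsClosedAction aQ ↔ GIT.IsClosedAction a := by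
  refine ⟨fun h Ω _ _ T e f => (isClosed_iff i q a aN π aQ haN hπ hequiv hq f).2 (h Ω T e (f ≫ π)),
    fun h Ω _ _ T e g => ?_⟩
  haveI : LocallyOfFiniteType π.left := by
    haveI : LocallyOfFiniteType (π.left ≫ Y.hom) := by rw [Over.w]; infer_instance
    exact locallyOfFiniteType_of_comp π.left Y.hom
  let Z := pullback π.left g.left
  let zs : Z ⟶ Spec (CommRingCat.of Ω) := pullback.snd _ _ ≫ e.hom
  haveI : JacobsonSpace Z := LocallyOfFiniteType.jacobsonSpace zs
  obtain ⟨x₀, hx₀⟩ := hπ.surj (g.left (e.inv (IsLocalRing.closedPoint Ω)))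
  obtain ⟨r, -, -⟩ := Scheme.Pullback.exists_preimage_pullback x₀ (e.inv (IsLocalRing.closedPoint Ω)) hx₀
  obtain ⟨z, hz⟩ : (closedPoints Z).Nonempty := by
    obtain ⟨z, -, hz⟩ := nonempty_inter_closedPoints (Z := (Set.univ : Set Z)) ⟨r, trivial⟩
      isClosed_univ.isLocallyClosed
    exact ⟨z, hz⟩
  let s : T.left ⟶ Z := e.hom ≫ pointOfClosedPoint zs z hz
  have hs : s ≫ pullback.snd π.left g.left = 𝟙 _ := by
    rw [← cancel_mono e.hom, Category.assoc, Category.assoc, Category.id_comp]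
    show e.hom ≫ pointOfClosedPoint zs z hz ≫ zs = e.hom
    rw [pointOfClosedPoint_comp, Category.comp_id]
  have hsg : (s ≫ pullback.fst π.left g.left) ≫ π.left = g.left := by
    rw [Category.assoc, pullback.condition, ← Category.assoc, hs, Category.id_comp]
  let f : T ⟶ X := Over.homMk (s ≫ pullback.fst π.left g.left) (by
    rw [← Over.w π, ← Category.assoc, hsg, Over.w g])
  have hf : f ≫ π = g := Over.OverMorphism.ext hsg
  rw [← hf]
  exact (isClosed_iff i q a aN π aQ haN hπ hequiv hq f).1 (h Ω T e f)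

end Groth.Agent.OrbitQuot
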