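import Groth.Agent.OrbitQuot.Closed
import Groth.Prelude.Def_GLinSh
import Mathlib.AlgebraicGeometry.Morphisms.QuasiFinite

/-!
# Finite stabilisers and quotients by a normal subgroup
-/

set_option autoImplicit false
universe u

noncomputable section

open CategoryTheory MonoidalCategory CartesianMonoidalCategory MonObj AlgebraicGeometry Limits

namespace Groth.Agent.OrbitQuot

variable {S : Scheme.{u}}

/-- points of a surjective morphism of finite type lift over algebraically closed fields -/
theorem exists_lift_algClosed {A B : Over S} (f : A ⟶ B) (hf : Function.Surjective f.left)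
    [LocallyOfFiniteType f.left] {Ω : Type u} [Field Ω] [IsAlgClosed Ω] {T : Over S}
    (e : T.left ≅ Spec (CommRingCat.of Ω)) (g : T ⟶ B) : ∃ s : T ⟶ A, s ≫ f = g := by
  let Z := pullback f.left g.left
  let zs : Z ⟶ Spec (CommRingCat.of Ω) := pullback.snd _ _ ≫ e.hom
  haveI : JacobsonSpace Z := LocallyOfFiniteType.jacobsonSpace zs
  obtain ⟨x₀, hx₀⟩ := hf (g.left (e.inv (IsLocalRing.closedPoint Ω)))
  obtain ⟨r, -, -⟩ := Scheme.Pullback.exists_preimage_pullback x₀ (e.inv (IsLocalRing.closedPoint Ω)) hx₀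
  obtain ⟨z, hz⟩ : (closedPoints Z).Nonempty := by
    obtain ⟨z, -, hz⟩ := nonempty_inter_closedPoints (Z := (Set.univ : Set Z)) ⟨r, trivial⟩
      isClosed_univ.isLocallyClosed
    exact ⟨z, hz⟩
  let s : T.left ⟶ Z := e.hom ≫ pointOfClosedPoint zs z hz
  have hs : s ≫ pullback.snd f.left g.left = 𝟙 _ := by
    rw [← cancel_mono e.hom, Category.assoc, Category.assoc, Category.id_comp]
    show e.hom ≫ pointOfClosedPoint zs z hz ≫ zs = e.hom
    rw [pointOfClosedPoint_comp, Category.comp_id]
  have hsg : (s ≫ pullback.fst f.left g.left) ≫ f.left = g.left := by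
    rw [Category.assoc, pullback.condition, ← Category.assoc, hs, Category.id_comp]
  exact ⟨Over.homMk (s ≫ pullback.fst f.left g.left) (by rw [← Over.w f, ← Category.assoc, hsg, Over.w g]),
    Over.OverMorphism.ext hsg⟩

theorem finite_of_finite_closedPoints {Z : Scheme.{u}} [JacobsonSpace Z] (h : (closedPoints Z).Finite) : Finite Z := by
  have hc : IsClosed (closedPoints Z) := by
    rw [← Set.biUnion_of_singleton (closedPoints Z)]
    exact h.isClosed_biUnion fun z hz => hz
  have huniv : (closedPoints Z) = Set.univ := by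
    rw [← hc.closure_eq, closure_closedPoints]
  exact Set.finite_univ_iff.1 (huniv ▸ h)

variable {H N Q X Y : Over S} [GrpObj H] [GrpObj N] [GrpObj Q]

/-- The stabiliser is finite exactly when it has finitely many rational points. -/
theorem isFinite_stabTo_iff (a : AlgGrp.Action H X) {Ω : Type u} [Field Ω] [IsAlgClosed Ω] {T : Over S}
    (e : T.left ≅ Spec (CommRingCat.of Ω)) (x : T ⟶ X) [LocallyOfFiniteType H.hom] [IsAffineHom H.hom]
    :
    IsFinite (GLinSh.stabTo a x) ↔ Finite {g : T ⟶ H // lift g x ≫ a.act = x} := by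
  let p := GIT.psi a x
  haveI : LocallyOfFiniteType (snd H T).left := MorphismProperty.pullback_snd H.hom T.hom inferInstance
  haveI : IsAffineHom (snd H T).left := MorphismProperty.pullback_snd H.hom T.hom inferInstance
  have hps : p.left ≫ (snd X T).left = (snd H T).left := by rw [← Over.comp_left]; simp [p, GIT.psi]
  haveI : LocallyOfFiniteType p.left := by
    haveI : LocallyOfFiniteType (p.left ≫ (snd X T).left) := by rw [hps]; infer_instance
    exact locallyOfFiniteType_of_comp p.left (snd X T).left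
  haveI : LocallyOfFiniteType (GLinSh.stabTo a x) := MorphismProperty.pullback_snd _ _ (inferInstanceAs (LocallyOfFiniteType p.left))
  haveI : QuasiCompact (GLinSh.stabTo a x) := by
    haveI : IsNoetherian T.left := by
      haveI : IsAffine T.left := IsAffine.of_isIso e.hom
      haveI : IsLocallyNoetherian T.left := LocallyOfFiniteType.isLocallyNoetherian e.hom
      exact ⟨⟩
    haveI : IsLocallyNoetherian (H ⊗ T).left := LocallyOfFiniteType.isLocallyNoetherian (snd H T).left
    haveI : CompactSpace ↥(H ⊗ T).left := QuasiCompact.compactSpace_of_compactSpace (snd H T).left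
    haveI : IsNoetherian (H ⊗ T).left := ⟨⟩
    haveI : IsImmersion (lift x (𝟙 T)).left := by
      haveI : IsImmersion ((lift x (𝟙 T)).left ≫ (snd X T).left) := by
        rw [← Over.comp_left, lift_snd, Over.id_left]; infer_instance
      exact IsImmersion.of_comp _ (snd X T).left
    haveI : IsImmersion (pullback.fst (GIT.psi a x).left (lift x (𝟙 T)).left) :=
      MorphismProperty.pullback_fst _ _ inferInstance
    haveI : CompactSpace ↥(GLinSh.stab a x) := by
      show CompactSpace ↥(pullback (GIT.psi a x).left (lift x (𝟙 T)).left)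
      exact ⟨(Scheme.Hom.isEmbedding (pullback.fst (GIT.psi a x).left (lift x (𝟙 T)).left)).isInducing.isCompact_iff.2
        (TopologicalSpace.NoetherianSpace.isCompact _)⟩
    haveI : CompactSpace ↥(GLinSh.stab a x) := inferInstance
    haveI : IsAffine T.left := IsAffine.of_isIso e.hom
    exact quasiCompact_iff_compactSpace _ |>.2 inferInstance
  let Z := pullback (GIT.psi a x).left (lift x (𝟙 T)).left
  let zs : Z ⟶ Spec (CommRingCat.of Ω) := pullback.snd (GIT.psi a x).left (lift x (𝟙 T)).left ≫ e.hom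
  haveI : LocallyOfFiniteType (pullback.snd (GIT.psi a x).left (lift x (𝟙 T)).left) :=
    inferInstanceAs (LocallyOfFiniteType (GLinSh.stabTo a x))
  haveI : QuasiCompact (pullback.snd (GIT.psi a x).left (lift x (𝟙 T)).left) :=
    inferInstanceAs (QuasiCompact (GLinSh.stabTo a x))
  haveI : JacobsonSpace Z := LocallyOfFiniteType.jacobsonSpace zs
  -- from group points to closed points
  have hpt : ∀ g : {g : T ⟶ H // lift g x ≫ a.act = x},
      (lift g.1 (𝟙 T)).left ≫ (GIT.psi a x).left = (𝟙 T.left) ≫ (lift x (𝟙 T)).left := by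
    rintro ⟨g, hg⟩
    rw [Category.id_comp, ← Over.comp_left]
    congr 1
    apply CartesianMonoidalCategory.hom_ext <;> simp [GIT.psi, lift_whiskerLeft_assoc, hg]
  let sOf : {g : T ⟶ H // lift g x ≫ a.act = x} → {s : Spec (CommRingCat.of Ω) ⟶ Z // s ≫ zs = 𝟙 _} := fun g =>
    ⟨e.inv ≫ pullback.lift (lift g.1 (𝟙 T)).left (𝟙 T.left) (hpt g), by
      simp only [zs, Category.assoc]
      erw [pullback.lift_snd_assoc]
      rw [Category.id_comp, e.inv_hom_id]⟩
  have hsOf : Function.Injective sOf := by
    intro g g' h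
    have h1 := congrArg (fun s => e.hom ≫ s.1 ≫ pullback.fst _ _) h
    simp only [sOf, Category.assoc, Iso.hom_inv_id_assoc] at h1
    erw [pullback.lift_fst, pullback.lift_fst] at h1
    have h2 : lift g.1 (𝟙 T) = lift g'.1 (𝟙 T) := Over.OverMorphism.ext h1
    exact Subtype.ext (by simpa using congrArg (· ≫ fst H T) h2)
  constructor
  · intro hfin
    haveI : Finite Z := by
      haveI : LocallyQuasiFinite (GLinSh.stabTo a x) := inferInstance
      have := (GLinSh.stabTo a x).finite_preimage_singleton (e.inv (IsLocalRing.closedPoint Ω))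
      refine Set.finite_univ_iff.1 (this.subset fun z _ => eq_closedPoint e _ _)
    haveI : Finite {s : Spec (CommRingCat.of Ω) ⟶ Z // s ≫ zs = 𝟙 _} :=
      Finite.of_equiv _ (pointEquivClosedPoint zs).symm
    exact Finite.of_injective sOf hsOf
  · intro hfin
    haveI : Finite {s : Spec (CommRingCat.of Ω) ⟶ Z // s ≫ zs = 𝟙 _} := by
      refine Finite.of_surjective sOf fun s => ?_
      have h2 : (e.hom ≫ s.1) ≫ pullback.snd _ _ = 𝟙 T.left := by
        rw [← cancel_mono e.hom]
        simp only [Category.assoc, Category.id_comp]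
        show e.hom ≫ s.1 ≫ zs = e.hom
        rw [s.2, Category.comp_id]
      have h1 : ((e.hom ≫ s.1) ≫ pullback.fst _ _) ≫ (GIT.psi a x).left = (lift x (𝟙 T)).left := by
        rw [Category.assoc, pullback.condition, ← Category.assoc, h2, Category.id_comp]
      let m : T ⟶ H ⊗ T := Over.homMk ((e.hom ≫ s.1) ≫ pullback.fst _ _)
        (by rw [← Over.w (GIT.psi a x), ← Category.assoc, h1, Over.w (lift x (𝟙 T))])
      have hm : m ≫ GIT.psi a x = lift x (𝟙 T) := Over.OverMorphism.ext h1
      have hm2 : m ≫ snd H T = 𝟙 T := by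
        have := congrArg (· ≫ snd X T) hm
        simpa [GIT.psi] using this
      have hg : lift (m ≫ fst H T) x ≫ a.act = x := by
        have := congrArg (· ≫ fst X T) hm
        simp only [GIT.psi, Category.assoc, lift_fst] at this
        refine Eq.trans ?_ this
        rw [← Category.assoc m]
        congr 1
        apply CartesianMonoidalCategory.hom_ext
        · simp
        · simp [reassoc_of% hm2]
      refine ⟨⟨_, hg⟩, Subtype.ext ?_⟩
      show e.inv ≫ pullback.lift _ _ _ = s.1
      rw [Iso.inv_comp_eq]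
      apply pullback.hom_ext
      · rw [pullback.lift_fst]
        have : lift (m ≫ fst H T) (𝟙 T) = m := by
          apply CartesianMonoidalCategory.hom_ext <;> simp [hm2]
        rw [this]
        rfl
      · rw [pullback.lift_snd, h2]
    haveI : Finite (closedPoints Z) := Finite.of_equiv _ (pointEquivClosedPoint zs)
    haveI : Finite Z := finite_of_finite_closedPoints (Set.toFinite _)
    let st : Z ⟶ T.left := pullback.snd (GIT.psi a x).left (lift x (𝟙 T)).left
    haveI : LocallyQuasiFinite st := LocallyQuasiFinite.of_finite_preimage_singleton _ fun _ => Set.toFinite _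
    haveI : LocallyQuasiFinite (st ≫ e.hom) := inferInstance
    haveI : IsFinite (st ≫ e.hom) := IsFinite.of_locallyQuasiFinite (st ≫ e.hom)
    have h : (st ≫ e.hom) ≫ e.inv = st := by rw [Category.assoc, e.hom_inv_id, Category.comp_id]
    show IsFinite st
    rw [← h]
    infer_instance

theorem isFinite_stabTo_quot_iff [LocallyOfFiniteType H.hom] [IsAffineHom H.hom] [LocallyOfFiniteType N.hom]
    [IsAffineHom N.hom] [LocallyOfFiniteType Q.hom] [IsAffineHom Q.hom] [LocallyOfFiniteType X.hom]

    (i : N ⟶ H) [IsMonHom i] (q : H ⟶ Q) [IsMonHom q] (hq : Function.Surjective q.left) (hker : AlgGrp.IsKernel i q)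
    (a : AlgGrp.Action H X) (aN : AlgGrp.Action N X) (haN : aN.act = (i ▷ X) ≫ a.act) (π : X ⟶ Y)
    (hπ : GIT.IsGeomQuot aN π) (aQ : AlgGrp.Action Q Y) (hequiv : (q ⊗ₘ π) ≫ aQ.act = a.act ≫ π)
    {Ω : Type u} [Field Ω] [IsAlgClosed Ω] {T : Over S} (e : T.left ≅ Spec (CommRingCat.of Ω)) (x : T ⟶ X)
    (hfin : IsFinite (GLinSh.stabTo aN x)) :
    IsFinite (GLinSh.stabTo aQ (x ≫ π)) ↔ IsFinite (GLinSh.stabTo a x) := by
  rw [isFinite_stabTo_iff aQ e (x ≫ π), isFinite_stabTo_iff a e x]
  haveI : Finite {n : T ⟶ N // lift n x ≫ aN.act = x} := (isFinite_stabTo_iff aN e x).1 hfin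
  have hN : ∀ (n : T ⟶ N) (y : T ⟶ X), lift n y ≫ aN.act = lift (n ≫ i) y ≫ a.act := fun n y => by
    rw [haN, ← Category.assoc]
    congr 1
    apply CartesianMonoidalCategory.hom_ext <;> simp
  have hQ : ∀ (g : T ⟶ H) (y : T ⟶ X), lift (g ≫ q) (y ≫ π) ≫ aQ.act = (lift g y ≫ a.act) ≫ π := fun g y => by
    rw [Category.assoc, ← hequiv, lift_map_assoc]
  let Φ : {g : T ⟶ H // lift g x ≫ a.act = x} → {u : T ⟶ Q // lift u (x ≫ π) ≫ aQ.act = x ≫ π} := fun g =>
    ⟨g.1 ≫ q, by rw [hQ, g.2]⟩
  have hfib : ∀ u, Finite (Φ ⁻¹' {u}) := by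
    intro u
    rcases (Φ ⁻¹' {u}).eq_empty_or_nonempty with h | ⟨g₀, hg₀⟩
    · rw [h]; infer_instance
    have hker' : ∀ g : ↥(Φ ⁻¹' {u}), ∃ n : T ⟶ N, n ≫ i = g₀.1⁻¹ * g.1.1 := fun g => by
      have h1 : (g₀.1⁻¹ * g.1.1) ≫ q = toUnit T ≫ η[Q] := by
        rw [MonObj.mul_comp, GrpObj.inv_comp, show g.1.1 ≫ q = g₀.1 ≫ q from
          congrArg Subtype.val (g.2.trans hg₀.symm), inv_mul_cancel, Hom.one_def]
      exact ⟨hker.lift _ (toUnit T) h1, hker.lift_fst _ _ h1⟩
    choose n hn using hker'
    have hfixinv : lift g₀.1⁻¹ x ≫ a.act = x := by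
      rw [show lift g₀.1⁻¹ x ≫ a.act = lift g₀.1⁻¹ (lift g₀.1 x ≫ a.act) ≫ a.act by rw [g₀.2], ← act_mul, inv_mul_cancel, Hom.one_def, ← lift_whiskerRight, Category.assoc, a.one_act, lift_leftUnitor_hom]
    refine Finite.of_injective (β := {n : T ⟶ N // lift n x ≫ aN.act = x})
      (fun g => ⟨n g, by rw [hN, hn, act_mul, g.1.2, hfixinv]⟩) fun g g' h => ?_
    have h1 := congrArg (fun m : {n : T ⟶ N // lift n x ≫ aN.act = x} => m.1 ≫ i) h
    simp only [hn] at h1
    exact Subtype.ext (Subtype.ext (mul_left_cancel h1))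
  have hsurj : Function.Surjective Φ := by
    rintro ⟨u, hu⟩
    haveI : LocallyOfFiniteType q.left := by
      haveI : LocallyOfFiniteType (q.left ≫ Q.hom) := by rw [Over.w]; infer_instance
      exact locallyOfFiniteType_of_comp q.left Q.hom
    obtain ⟨h, rfl⟩ := exists_lift_algClosed q hq e u
    let x₂ := lift h x ≫ a.act
    have hx : x ≫ π = x₂ ≫ π := by rw [← hu, hQ]
    let PY : Over S := Over.mk (pullback.fst π.left π.left ≫ X.hom)
    let Ψ : N ⊗ X ⟶ PY := Over.homMk (GIT.PsiY aN π hπ.inv) (by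
      show GIT.PsiY aN π hπ.inv ≫ pullback.fst π.left π.left ≫ X.hom = _
      rw [GIT.PsiY, pullback.lift_fst_assoc]
      exact Over.w aN.act)
    let m : T ⟶ PY := Over.homMk (pullback.lift x.left x₂.left (congrArg CommaMorphism.left hx)) (by
      show pullback.lift x.left x₂.left _ ≫ pullback.fst π.left π.left ≫ X.hom = _
      rw [pullback.lift_fst_assoc]
      exact Over.w x)
    haveI : LocallyOfFiniteType Ψ.left := by
      haveI : LocallyOfFiniteType (snd N X).left := MorphismProperty.pullback_snd N.hom X.hom inferInstance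
      haveI : LocallyOfFiniteType (Ψ.left ≫ pullback.snd π.left π.left) := by
        show LocallyOfFiniteType (GIT.PsiY aN π hπ.inv ≫ pullback.snd π.left π.left)
        rw [GIT.PsiY, pullback.lift_snd]
        infer_instance
      exact locallyOfFiniteType_of_comp Ψ.left (pullback.snd π.left π.left)
    obtain ⟨n, hn⟩ := exists_lift_algClosed Ψ hπ.orbit e m
    have hn₁ : n ≫ aN.act = x := by
      have := congrArg (fun g : T ⟶ PY => g.left ≫ pullback.fst π.left π.left) hn
      simp only [Ψ, m, Over.comp_left, Over.homMk_left, Category.assoc, GIT.PsiY, pullback.lift_fst] at this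
      exact Over.OverMorphism.ext this
    have hn₂ : n ≫ snd N X = x₂ := by
      have := congrArg (fun g : T ⟶ PY => g.left ≫ pullback.snd π.left π.left) hn
      simp only [Ψ, m, Over.comp_left, Over.homMk_left, Category.assoc, GIT.PsiY, pullback.lift_snd] at this
      exact Over.OverMorphism.ext this
    have hnlift : lift (n ≫ fst N X) x₂ = n := by
      apply CartesianMonoidalCategory.hom_ext <;> simp [hn₂]
    refine ⟨⟨((n ≫ fst N X) ≫ i) * h, by rw [act_mul, ← hN, hnlift, hn₁]⟩, Subtype.ext ?_⟩
    show (((n ≫ fst N X) ≫ i) * h) ≫ q = h ≫ q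
    rw [MonObj.mul_comp, Category.assoc (n ≫ fst N X), hker.w, ← Category.assoc, toUnit_unique ((n ≫ fst N X) ≫ toUnit N) (toUnit T),
      ← Hom.one_def, _root_.one_mul]
  refine ⟨fun _ => ?_, fun _ => Finite.of_surjective Φ hsurj⟩
  haveI : ∀ u, Finite {g // Φ g = u} := hfib
  exact Finite.of_equiv _ (Equiv.sigmaFiberEquiv Φ)

end Groth.Agent.OrbitQuot
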